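import Cfsg.Agent.Lib.Spor.HSType.Cert.H001.Data

/-!
Checks of a part of the derivation.
-/

set_option autoImplicit false

namespace CfsgLib.Spor.HSType.Cert.H001

open CfsgLib.Spor.TC

def scodes0 : List ℕ := [
  0x1,
  0x1,
  0x10000100003,
  0x10000200003,
  0x1,
  0x2000040000a00004000010000100002,
  0x1000080000200003000010000500002,
  0x1,
  0x1,
  0x1,
  0x1,
  0x100005000020001000012000140001600006000010000600002,
  0x1,
  0x1,
  0x1,
  0x1,
  0x1,
  0x1800001000050000500002000100001a0001c0001e000200002200008000010000700002,
  0x1,
  0x1,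
  0x27000080002800002000010000a00002,
  0x1,
  0x1,
  0x1,
  0x2400018000010000500005000280002c0002e0003000005000010000c00002,
  0x2800002000010000d00002,
  0x1,
  0x1,
  0xc000360003800003000010001000002,
  0x3600002000010001100002,
  0x1,
  0x250002400018000100001a0003e00004000020000200002,
  0x190000f0000d0001000003000020000400002,
  0x1,
  0x35000020004400002000020001000002,
  0x4400002000020001100002,
  0x1,
  0x1,
  0x1,
  0x1,
  0x1,
  0x1,
  0x1,
  0x1,
  0x1,
  0x1,
  0x1,
  0x1,
  0x1,
  0x18000440004a0004c0004e00050000520005400056000580005a0005c0005e00060000620000f000020001300002,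
  0x1,
  0x340000b000390006600003000040001200002,
  0x1,
  0x410006a00002000050000300002,
  0x1,
  0x3d000190006a0006e00003000050000400002,
  0x1,
  0x1,
  0x15000720007400003000070000b00002,
  0x1,
  0x1,
  0x15000780007a00003000070001000002,
  0x1,
  0x640007e00002000080000300002,
  0x690000f000170007e00002000080000400002,
  0x62000640007500002000080000a00002,
  0x1,
  0x1,
  0x1,
  0x1,
  0x1,
  0x1,
  0x1,
  0x1,
  0x1,
  0x6000083000760007b00086000880008a0008c0008e000900009200094000960000b000080001500002,
  0x3d000410001a0006b0008100005000090000400002,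
  0x3f000990008200004,
  0x7f0009a0006f00004,
  0x260009b0006e0009e00004,
  0x320009f0006100004,
  0x30000a10005f00004,
  0x2e000a30009700004,
  0x2c000a50009500004,
  0x68000a70009300004,
  0x92000aa00004,
  0x1,
  0xad00029000ae000020000f0000f00002,
  0x68000ae000020000f0001100002,
  0xb1000af000b200004,
  0x3c0000600002000170007b00086000880008a0008c0008e00090000ab000b3000650000f000130001500002,
  0x38000b60004500004,
  0x3b000b70004800004,
  0x2000ba00004]

set_option maxRecDepth 100000 in
theorem steps0 : cert.SStepsOK 0 94 :=
  Cert.SStepsOK.of_check _ (codes := scodes0) (by decide +kernel)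

end CfsgLib.Spor.HSType.Cert.H001
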